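import Groth.Prelude.Def_W4c5nonratstablectREq
import Groth.Agent.Lib.ProjSpace.BaseChange
import Mathlib.Algebra.MvPolynomial.Funext

/-! Direct R-links: functoriality, links through lines, links in opens of affine space. -/

set_option autoImplicit false
universe u

open AlgebraicGeometry CategoryTheory CategoryTheory.Limits MvPolynomial

namespace Groth.Agent.Lib.H75.REq.Basic

open Groth.Agent.Lib.ProjSpace

variable {k : Type u} [Field k] {K : Type u} [Field K] [Algebra k K]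

/-- Pushing a point along a morphism over `k`. -/
noncomputable def mapPt {X Y : Scheme.{u}} {f : X ⟶ Spec (CommRingCat.of k)} {f' : Y ⟶ Spec (CommRingCat.of k)}
    (g : X ⟶ Y) (hg : g ≫ f' = f) (A : _root_.REq.Pts f K) : _root_.REq.Pts f' K :=
  ⟨A.1 ≫ g, by rw [Category.assoc, hg]; exact A.2⟩

theorem elemLink_map {X Y : Scheme.{u}} {f : X ⟶ Spec (CommRingCat.of k)} {f' : Y ⟶ Spec (CommRingCat.of k)}
    (g : X ⟶ Y) (hg : g ≫ f' = f) {A B : _root_.REq.Pts f K} (h : _root_.REq.ElemLink f K A B) :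
    _root_.REq.ElemLink f' K (mapPt g hg A) (mapPt g hg B) := by
  obtain ⟨U, φ, a, b, h1, h2, h3, h4, h5⟩ := h
  refine ⟨U, φ ≫ g, a, b, ?_, h2, h3, ?_, ?_⟩
  · rw [Category.assoc, hg, h1]
  · rw [← Category.assoc, h4]; rfl
  · rw [← Category.assoc, h5]; rfl

variable (K) in
/-- The affine line inside the projective line. -/
noncomputable def lineι : Spec (CommRingCat.of (MvPolynomial (Fin 1) K)) ⟶ _root_.REq.P1K K :=
  Basic.chartι K 0 ≫ (BaseChange.overSpecIso 1 K).inv

instance : IsOpenImmersion (lineι K) := by unfold lineι; infer_instance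

theorem lineι_toSpec :
    lineι K ≫ _root_.REq.P1K.toSpec K = Spec.map (CommRingCat.ofHom (C : K →+* MvPolynomial (Fin 1) K)) := by
  rw [lineι, Category.assoc]
  erw [BaseChange.overSpecIso_inv_toBase]
  exact Basic.chartι_toSpec K 0

/-- The point `t = c` of the line. -/
noncomputable def evalPt (c : K) : Spec (CommRingCat.of K) ⟶ Spec (CommRingCat.of (MvPolynomial (Fin 1) K)) :=
  Spec.map (CommRingCat.ofHom (MvPolynomial.eval fun _ => c))

theorem evalPt_C (c : K) :
    evalPt c ≫ Spec.map (CommRingCat.ofHom (C : K →+* MvPolynomial (Fin 1) K)) = 𝟙 _ := by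
  rw [evalPt, ← Spec.map_comp, ← CommRingCat.ofHom_comp,
    show (MvPolynomial.eval fun _ => c).comp C = RingHom.id K from RingHom.ext fun r => eval_C r]
  exact Spec.map_id _

theorem elemLink_of_hom {X : Scheme.{u}} {f : X ⟶ Spec (CommRingCat.of k)} (V : X.Opens)
    (l : Spec (CommRingCat.of (MvPolynomial (Fin 1) K)) ⟶ X)
    (hl : l ≫ f = Spec.map (CommRingCat.ofHom (C : K →+* MvPolynomial (Fin 1) K)) ≫ _root_.REq.specMap k K)
    (A B : _root_.REq.Pts (V.ι ≫ f) K) (hA : evalPt 0 ≫ l = A.1 ≫ V.ι) (hB : evalPt 1 ≫ l = B.1 ≫ V.ι) :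
    _root_.REq.ElemLink (V.ι ≫ f) K A B := by
  have hlift : ∀ (c : K) (P : _root_.REq.Pts (V.ι ≫ f) K), evalPt c ≫ l = P.1 ≫ V.ι →
      ∃ a : Spec (CommRingCat.of K) ⟶ (l ⁻¹ᵁ V : Scheme.{u}),
        a ≫ (l ⁻¹ᵁ V).ι = evalPt c ∧ a ≫ (l ∣_ V) = P.1 := by
    intro c P hP
    have hr : Set.range (evalPt c) ⊆ Set.range (l ⁻¹ᵁ V).ι := by
      rw [Scheme.Opens.range_ι]
      rintro _ ⟨s, rfl⟩
      show l (evalPt c s) ∈ V
      rw [← Scheme.Hom.comp_apply, hP, Scheme.Hom.comp_apply]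
      exact (P.1 s).2
    refine ⟨IsOpenImmersion.lift (l ⁻¹ᵁ V).ι _ hr, IsOpenImmersion.lift_fac _ _ _, ?_⟩
    rw [← cancel_mono V.ι, Category.assoc, morphismRestrict_ι, ← Category.assoc, IsOpenImmersion.lift_fac, hP]
  obtain ⟨a, ha1, ha2⟩ := hlift 0 A hA
  obtain ⟨b, hb1, hb2⟩ := hlift 1 B hB
  let e := (lineι K).isoImage (l ⁻¹ᵁ V)
  have he : e.hom ≫ (lineι K ''ᵁ (l ⁻¹ᵁ V)).ι = (l ⁻¹ᵁ V).ι ≫ lineι K := Scheme.Hom.isoImage_hom_ι _ _
  refine ⟨lineι K ''ᵁ (l ⁻¹ᵁ V), e.inv ≫ (l ∣_ V), a ≫ e.hom, b ≫ e.hom, ?_, ?_, ?_, ?_, ?_⟩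
  · rw [← cancel_epi e.hom, Category.assoc, Iso.hom_inv_id_assoc, morphismRestrict_ι_assoc, hl,
      reassoc_of% he, ← Category.assoc (lineι K), lineι_toSpec]
  · rw [Category.assoc, reassoc_of% he, reassoc_of% ha1, lineι_toSpec, evalPt_C]
  · rw [Category.assoc, reassoc_of% he, reassoc_of% hb1, lineι_toSpec, evalPt_C]
  · rw [Category.assoc, Iso.hom_inv_id_assoc, ha2]
  · rw [Category.assoc, Iso.hom_inv_id_assoc, hb2]

/-- The affine parametrisation through two values. -/
noncomputable def interp (a b : K) : MvPolynomial (Fin 1) K := C a + X 0 * (C b - C a)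

theorem eval_interp_zero (a b : K) : MvPolynomial.eval (fun _ => (0 : K)) (interp a b) = a := by
  simp [interp]

theorem eval_interp_one (a b : K) : MvPolynomial.eval (fun _ => (1 : K)) (interp a b) = b := by
  simp [interp]

/-- Any two `K`-points of an open of affine space are directly linked in it. -/
theorem elemLink_affineSpace (n : ℕ) (V : (Spec (CommRingCat.of (MvPolynomial (Fin n) k))).Opens)
    (A B : _root_.REq.Pts (V.ι ≫ Spec.map (CommRingCat.ofHom (algebraMap k (MvPolynomial (Fin n) k)))) K) :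
    _root_.REq.ElemLink (V.ι ≫ Spec.map (CommRingCat.ofHom (algebraMap k (MvPolynomial (Fin n) k)))) K A B := by
  obtain ⟨φA, hφA⟩ := Spec.homEquiv.symm.surjective (A.1 ≫ V.ι)
  obtain ⟨φB, hφB⟩ := Spec.homEquiv.symm.surjective (B.1 ≫ V.ι)
  have hC : ∀ (P : _root_.REq.Pts (V.ι ≫ Spec.map (CommRingCat.ofHom (algebraMap k (MvPolynomial (Fin n) k)))) K)
      (φ : CommRingCat.of (MvPolynomial (Fin n) k) ⟶ CommRingCat.of K), Spec.map φ = P.1 ≫ V.ι →
      ∀ r : k, φ (C r) = algebraMap k K r := by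
    intro P φ hφ r
    have h := P.2
    rw [← Category.assoc, ← hφ, ← Spec.map_comp] at h
    exact congr($(Spec.map_injective h) r)
  let g : MvPolynomial (Fin n) k →+* MvPolynomial (Fin 1) K :=
    eval₂Hom (C.comp (algebraMap k K)) fun i => interp (φA (X i)) (φB (X i))
  refine elemLink_of_hom V (Spec.map (CommRingCat.ofHom g)) ?_ A B ?_ ?_
  · rw [← Spec.map_comp, ← Spec.map_comp, ← CommRingCat.ofHom_comp, ← CommRingCat.ofHom_comp]
    congr 2
    exact RingHom.ext fun r => eval₂Hom_C _ _ r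
  · refine Eq.trans ?_ hφA
    refine (Spec.map_comp _ _).symm.trans (congrArg Spec.map (CommRingCat.hom_ext ?_))
    refine MvPolynomial.ringHom_ext (fun r => ?_) (fun i => ?_)
    · show MvPolynomial.eval _ (g (C r)) = φA (C r)
      rw [hC A φA hφA r, eval₂Hom_C, RingHom.comp_apply, eval_C]
    · show MvPolynomial.eval _ (g (X i)) = φA (X i)
      rw [eval₂Hom_X', eval_interp_zero]
  · refine Eq.trans ?_ hφB
    refine (Spec.map_comp _ _).symm.trans (congrArg Spec.map (CommRingCat.hom_ext ?_))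
    refine MvPolynomial.ringHom_ext (fun r => ?_) (fun i => ?_)
    · show MvPolynomial.eval _ (g (C r)) = φB (C r)
      rw [hC B φB hφB r, eval₂Hom_C, RingHom.comp_apply, eval_C]
    · show MvPolynomial.eval _ (g (X i)) = φB (X i)
      rw [eval₂Hom_X', eval_interp_one]

/-- Over an infinite field a non-empty open of affine space has a rational point. -/
theorem exists_rational_point [Infinite k] (n : ℕ) (V : (Spec (CommRingCat.of (MvPolynomial (Fin n) k))).Opens)
    (hV : (V : Set (Spec (CommRingCat.of (MvPolynomial (Fin n) k)))).Nonempty) :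
    Nonempty (_root_.REq.Pts (V.ι ≫ Spec.map (CommRingCat.ofHom (algebraMap k (MvPolynomial (Fin n) k)))) K) := by
  obtain ⟨p, hp⟩ := hV
  obtain ⟨_, ⟨_, ⟨r, rfl⟩, rfl⟩, hpr, hrV⟩ :=
    PrimeSpectrum.isBasis_basic_opens.exists_subset_of_mem_open hp V.2
  have hr : r ≠ 0 := fun h => hpr (h ▸ zero_mem _)
  obtain ⟨x, hx⟩ : ∃ x : Fin n → k, MvPolynomial.eval x r ≠ 0 := by
    by_contra! h
    exact hr (MvPolynomial.funext fun x => by rw [h x, map_zero])
  let e : MvPolynomial (Fin n) k →+* K := (algebraMap k K).comp (MvPolynomial.eval x)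
  have hr' : Set.range (Spec.map (CommRingCat.ofHom e)) ⊆ Set.range V.ι := by
    rw [Scheme.Opens.range_ι]
    rintro _ ⟨s, rfl⟩
    refine hrV fun h => ?_
    have h' : e r ∈ s.asIdeal := h
    exact s.isPrime.ne_top (Ideal.eq_top_of_isUnit_mem _ h' (IsUnit.map (algebraMap k K) (Ne.isUnit hx)))
  refine ⟨⟨IsOpenImmersion.lift V.ι _ hr', ?_⟩⟩
  rw [IsOpenImmersion.lift_fac_assoc, ← Spec.map_comp, ← CommRingCat.ofHom_comp]
  congr 2
  exact RingHom.ext fun c => congrArg (algebraMap k K) (eval_C c)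

end Groth.Agent.Lib.H75.REq.Basic
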