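import Groth.Agent.Lib.H75.REq.Basic
import Mathlib.AlgebraicGeometry.Birational.RationalMap
import Mathlib.AlgebraicGeometry.ValuativeCriterion
import Mathlib.RingTheory.PrincipalIdealDomain

/-! Extending and spreading out a link. -/

set_option autoImplicit false
universe u

open AlgebraicGeometry CategoryTheory CategoryTheory.Limits TopologicalSpace

namespace Groth.Agent.Lib.H75.REq.Extend

open Groth.Agent.Lib.ProjSpace

section Val

variable (K : Type u) [Field K]

instance : IsPrincipalIdealRing (MvPolynomial (Fin 1) K) :=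
  have e : Polynomial K ≃ₐ[K] MvPolynomial (Fin 1) K :=
    (MvPolynomial.pUnitAlgEquiv.{u, 0} K).symm.trans (MvPolynomial.renameEquiv K (Equiv.ofUnique PUnit.{1} (Fin 1)))
  IsPrincipalIdealRing.of_surjective e.toRingEquiv.toRingHom e.surjective

instance isIntegral_P1K : IsIntegral (_root_.REq.P1K K) :=
  haveI : Nonempty (_root_.REq.P1K K) :=
    ⟨(BaseChange.overSpecIso 1 K).inv (Basic.zeroPoint 1 K)⟩
  isIntegral_of_isOpenImmersion (BaseChange.overSpecIso 1 K).hom

theorem valuationRing_stalk (y : _root_.REq.P1K K) [IsDomain ((_root_.REq.P1K K).presheaf.stalk y)] :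
    ValuationRing ((_root_.REq.P1K K).presheaf.stalk y) := by
  let e := BaseChange.overSpecIso 1 K
  obtain ⟨i, p, hp⟩ := Basic.exists_mem_opensRange_chartι 1 K (e.hom y)
  let j : Spec (CommRingCat.of (MvPolynomial (Fin 1) K)) ⟶ _root_.REq.P1K K := Basic.chartι K i ≫ e.inv
  have hj : j p = y := by
    show (Basic.chartι K i ≫ e.inv) p = y
    rw [Scheme.Hom.comp_apply, hp, ← Scheme.Hom.comp_apply, Iso.hom_inv_id]
    rfl
  subst hj
  haveI : IsOpenImmersion j := by
    show IsOpenImmersion (Basic.chartι K i ≫ e.inv)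
    infer_instance
  let Sp := (Spec (CommRingCat.of (MvPolynomial (Fin 1) K))).presheaf.stalk p
  letI : Algebra (MvPolynomial (Fin 1) K) Sp := StructureSheaf.stalkAlgebra (MvPolynomial (Fin 1) K) p
  haveI : IsLocalization.AtPrime Sp p.asIdeal := StructureSheaf.IsLocalization.to_stalk _ p
  let ee : Sp ≃+* (_root_.REq.P1K K).presheaf.stalk (j p) :=
    (asIso (j.stalkMap p)).symm.commRingCatIsoToRingEquiv
  haveI : IsPrincipalIdealRing Sp := ⟨fun I => by
    obtain ⟨a, ha⟩ := IsPrincipalIdealRing.principal (Ideal.under (MvPolynomial (Fin 1) K) I)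
    have e := IsLocalization.map_under (R := MvPolynomial (Fin 1) K) p.asIdeal.primeCompl Sp I
    rw [← e]
    refine ⟨algebraMap _ Sp a, ?_⟩
    rw [ha, Ideal.submodule_span_eq, Ideal.map_span, Set.image_singleton]⟩
  haveI : IsPrincipalIdealRing ((_root_.REq.P1K K).presheaf.stalk (j p)) :=
    IsPrincipalIdealRing.of_surjective ee.toRingHom ee.surjective
  infer_instance

end Val

/-- Valuative criterion at a point with valuation ring stalk. -/
theorem exists_lift_stalk {S X C : Scheme.{u}} [IsIntegral C] (f : X ⟶ S) [IsProper f] (π : C ⟶ S)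
    (ψ : Spec C.functionField ⟶ X) (hψ : ψ ≫ f = C.fromSpecStalk (genericPoint _) ≫ π) (y : C)
    [IsDomain (C.presheaf.stalk y)] (hval : ValuationRing (C.presheaf.stalk y)) :
    ∃ l : Spec (C.presheaf.stalk y) ⟶ X,
      Spec.map (C.presheaf.stalkSpecializes (genericPoint_specializes y)) ≫ l = ψ ∧
      l ≫ f = C.fromSpecStalk y ≫ π := by
  let S' : ValuativeCommSq f :=
    { R := C.presheaf.stalk y
      valuationRing := hval
      K := C.functionField
      i₁ := ψ
      i₂ := C.fromSpecStalk y ≫ π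
      commSq := ⟨by
        rw [hψ, ← Scheme.SpecMap_stalkSpecializes_fromSpecStalk_assoc (genericPoint_specializes y)]
        rfl⟩ }
  have hex : ValuativeCriterion.Existence f := by
    have h : UniversallyClosed f := inferInstance
    rw [UniversallyClosed.eq_valuativeCriterion] at h
    exact h.1
  obtain ⟨⟨l, h1, h2⟩⟩ := hex S'
  exact ⟨l, h1, h2⟩


theorem fromSpecStalkOfMem_specializes {P X : Scheme.{u}} (p : P.PartialMap X) {a b : P} (h : a ⤳ b)
    (ha : a ∈ p.domain) (hb : b ∈ p.domain) :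
    Spec.map (P.presheaf.stalkSpecializes h) ≫ p.fromSpecStalkOfMem hb = p.fromSpecStalkOfMem ha := by
  rw [Scheme.PartialMap.fromSpecStalkOfMem, Scheme.PartialMap.fromSpecStalkOfMem, ← Category.assoc]
  congr 1
  rw [← cancel_mono p.domain.ι, Category.assoc, Scheme.Opens.fromSpecStalkOfMem_ι,
    Scheme.Opens.fromSpecStalkOfMem_ι, Scheme.SpecMap_stalkSpecializes_fromSpecStalk]

theorem key_comp {C P : Scheme.{u}} (q : C ⟶ P) (U : C.Opens) (D D' : P.Opens) (hle : D' ≤ D) {z : C} (hz : z ∈ U)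
    (hm : q z ∈ D') (L : (U : Scheme.{u}) ⟶ D) (hL : L ≫ D.ι = U.ι ≫ q) :
    U.fromSpecStalkOfMem z hz ≫ L =
      Spec.map (q.stalkMap z) ≫ D'.fromSpecStalkOfMem (q z) hm ≫ P.homOfLE hle := by
  rw [← cancel_mono D.ι, Category.assoc, Category.assoc, Category.assoc, hL, Scheme.homOfLE_ι,
    Scheme.Opens.fromSpecStalkOfMem_ι, ← Category.assoc, Scheme.Opens.fromSpecStalkOfMem_ι,
    Scheme.SpecMap_stalkMap_fromSpecStalk]

variable {k : Type u} [Field k] {X : Scheme.{u}} (f : X ⟶ Spec (CommRingCat.of k))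

/-- A link over the generic fibre spreads out to an open neighbourhood of the generic fibre. -/
theorem exists_extend [IsProper f] {C P : Scheme.{u}} [IsIntegral C] [IsIntegral P]
    (hval : ∀ (y : C) [IsDomain (C.presheaf.stalk y)], ValuationRing (C.presheaf.stalk y))
    (πP : P ⟶ Spec (CommRingCat.of k)) (q : C ⟶ P) [IsPreimmersion q] [Flat q]
    (U : C.Opens) (hU : Nonempty U) (h : (U : Scheme.{u}) ⟶ X)
    (hh : h ≫ f = U.ι ≫ q ≫ πP) :
    ∃ (D : P.Opens) (G : (D : Scheme.{u}) ⟶ X) (hD : ∀ y, q y ∈ D),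
      G ≫ f = D.ι ≫ πP ∧ IsOpenImmersion.lift D.ι (U.ι ≫ q)
        (by rw [Scheme.Opens.range_ι]; rintro _ ⟨z, rfl⟩; exact hD _) ≫ G = h := by
  let ζ := genericPoint C
  have hζU : ζ ∈ U := ((genericPoint_spec C).mem_open_set_iff U.2).2 ⟨hU.some.1, trivial, hU.some.2⟩
  let ψ : Spec C.functionField ⟶ X := U.fromSpecStalkOfMem ζ hζU ≫ h
  have hψ : ψ ≫ f = C.fromSpecStalk ζ ≫ q ≫ πP := by
    show (U.fromSpecStalkOfMem ζ hζU ≫ h) ≫ f = _
    rw [Category.assoc, hh, ← Category.assoc, Scheme.Opens.fromSpecStalkOfMem_ι]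
  haveI hdom : ∀ y : C, IsDomain (C.presheaf.stalk y) := fun y =>
    (IsFractionRing.injective (C.presheaf.stalk y) C.functionField).isDomain
  choose l hl1 hl2 using fun y => exists_lift_stalk f (q ≫ πP) ψ hψ y (hval y)
  have hiso : ∀ y : C, IsIso (q.stalkMap y) := fun y => by
    rw [ConcreteCategory.isIso_iff_bijective]
    refine ⟨?_, q.stalkMap_surjective y⟩
    algebraize [(q.stalkMap y).hom]
    have : Module.FaithfullyFlat (P.presheaf.stalk (q y)) (C.presheaf.stalk y) :=
      @Module.FaithfullyFlat.of_flat_of_isLocalHom _ _ _ _ _ _ _ (Flat.stalkMap q y) (q.toLRSHom.prop y)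
    exact ‹RingHom.FaithfullyFlat _›.injective
  let φ : ∀ y : C, Spec (P.presheaf.stalk (q y)) ⟶ X := fun y => inv (Spec.map (q.stalkMap y)) ≫ l y
  have hφ : ∀ y, φ y ≫ f = P.fromSpecStalk (q y) ≫ πP := fun y => by
    rw [Category.assoc, IsIso.inv_comp_eq, hl2, Scheme.SpecMap_stalkMap_fromSpecStalk_assoc]
  have hsp : ∀ y, q ζ ⤳ q y := fun y => (genericPoint_specializes y).map q.continuous
  have hφζ : ∀ y, Spec.map (P.presheaf.stalkSpecializes (hsp y)) ≫ φ y = inv (Spec.map (q.stalkMap ζ)) ≫ ψ := by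
    intro y
    rw [IsIso.eq_inv_comp, ← Category.assoc, ← Spec.map_comp,
      Scheme.Hom.stalkSpecializes_stalkMap q ζ y (genericPoint_specializes y), Spec.map_comp, Category.assoc,
      IsIso.hom_inv_id_assoc, hl1]
  -- partial maps
  let pm : ∀ y : C, P.PartialMap X := fun y => Scheme.PartialMap.ofFromSpecStalk πP f (φ y) (hφ y)
  have hmem : ∀ y, q y ∈ (pm y).domain := fun y => Scheme.PartialMap.mem_domain_ofFromSpecStalk _ _ _ _
  have hgen : ∀ y, ∃ hm : q ζ ∈ (pm y).domain, (pm y).fromSpecStalkOfMem hm = inv (Spec.map (q.stalkMap ζ)) ≫ ψ := by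
    intro y
    refine ⟨(hsp y).mem_open (pm y).domain.2 (hmem y), ?_⟩
    rw [← hφζ y]
    have e2 := Scheme.PartialMap.fromSpecStalkOfMem_ofFromSpecStalk πP f (φ y) (hφ y)
    conv_rhs => rw [← e2]
    exact (fromSpecStalkOfMem_specializes (pm y) (hsp y) _ _).symm
  haveI : X.IsSeparated := ⟨by
    rw [← terminal.comp_from f]
    infer_instance⟩
  let r := (pm ζ).toRationalMap
  have hr : ∀ y, (pm y).toRationalMap = r := fun y => by
    obtain ⟨m1, e1⟩ := hgen y
    obtain ⟨m2, e2⟩ := hgen ζ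
    exact Scheme.PartialMap.toRationalMap_eq_iff.2
      (Scheme.PartialMap.equiv_of_fromSpecStalkOfMem_eq _ _ m1 m2 (e1.trans e2.symm))
  have hD : ∀ y, q y ∈ r.domain := fun y => Scheme.RationalMap.mem_domain.2 ⟨pm y, hmem y, hr y⟩
  let G : (r.domain : Scheme.{u}) ⟶ X := r.toPartialMap.hom
  have hle : (pm ζ).domain ≤ r.domain := (pm ζ).le_domain_toRationalMap
  have hG : P.homOfLE hle ≫ G = (pm ζ).hom := (pm ζ).toPartialMap_toRationalMap_restrict
  refine ⟨r.domain, G, hD, ?_, ?_⟩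
  · haveI : IsDominant (P.homOfLE hle) := Opens.isDominant_homOfLE (pm ζ).dense_domain _
    refine ext_of_isDominant (ι := P.homOfLE hle) ?_
    rw [reassoc_of% hG, Scheme.homOfLE_ι_assoc]
    exact Scheme.PartialMap.ofFromSpecStalk_comp πP f (φ ζ) (hφ ζ)
  · set L := IsOpenImmersion.lift r.domain.ι (U.ι ≫ q)
      (by rw [Scheme.Opens.range_ι]; rintro _ ⟨z, rfl⟩; exact hD _)
    haveI : IsDominant (U.fromSpecStalkOfMem ζ hζU) := by
      refine ⟨?_⟩
      have hz : (⟨ζ, hζU⟩ : U) ∈ Set.range (U.fromSpecStalkOfMem ζ hζU) := by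
        refine ⟨IsLocalRing.closedPoint _, U.ι.isOpenEmbedding.injective ?_⟩
        rw [← Scheme.Hom.comp_apply, Scheme.Opens.fromSpecStalkOfMem_ι, Scheme.fromSpecStalk_closedPoint]
        rfl
      intro z
      refine closure_mono (Set.singleton_subset_iff.2 hz) (specializes_iff_mem_closure.1 ?_)
      exact U.ι.isOpenEmbedding.isInducing.specializes_iff.1 (genericPoint_specializes _)
    refine ext_of_isDominant (ι := U.fromSpecStalkOfMem ζ hζU) ?_
    obtain ⟨hm, e⟩ := hgen ζ
    have key := key_comp q U r.domain (pm ζ).domain hle hζU hm L (IsOpenImmersion.lift_fac _ _ _)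
    rw [reassoc_of% key, hG]
    show Spec.map (q.stalkMap ζ) ≫ (pm ζ).fromSpecStalkOfMem hm = ψ
    rw [e, IsIso.hom_inv_id_assoc]

end Groth.Agent.Lib.H75.REq.Extend
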