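import Groth.Agent.Lib.H75.REq.Basic

/-! Direct R-links in opens of projective space. -/

set_option autoImplicit false
universe u

open AlgebraicGeometry CategoryTheory CategoryTheory.Limits MvPolynomial

noncomputable section

namespace Groth.Agent.Lib.H75.REq.Proj

open Groth.Agent.Lib.ProjSpace Groth.Agent.Lib.H75.REq.Basic

variable {k : Type u} [Field k] {K : Type u} [Field K] [Algebra k K] (n : ℕ)

/-- The degree zero localization at a linear form. -/
abbrev AwayL (ℓ : MvPolynomial (Fin (n + 1)) k) : Type u :=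
  HomogeneousLocalization.Away (CohB1.polyGrading n k) ℓ

variable {n}

/-- Constants. -/
def constL (ℓ : MvPolynomial (Fin (n + 1)) k) : k →+* AwayL n ℓ :=
  (HomogeneousLocalization.fromZeroRingHom (CohB1.polyGrading n k) (Submonoid.powers ℓ)).comp
    (algebraMap k (CohB1.polyGrading n k 0))

variable {ℓ : MvPolynomial (Fin (n + 1)) k} (hℓ : ℓ.IsHomogeneous 1)

/-- `T_j / ℓ`. -/
def coordL (j : Fin (n + 1)) : AwayL n ℓ :=
  HomogeneousLocalization.mk (𝒜 := CohB1.polyGrading n k) (x := Submonoid.powers ℓ)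
    ⟨1, ⟨X j, isHomogeneous_X k j⟩, ⟨ℓ, hℓ⟩, Submonoid.mem_powers _⟩

theorem val_constL (r : k) :
    (constL ℓ r).val = algebraMap (MvPolynomial (Fin (n + 1)) k) (Localization.Away ℓ) (C r) := by
  rw [← Localization.mk_one_eq_algebraMap]; rfl

theorem algebraMap_mul_val_coordL (j : Fin (n + 1)) :
    algebraMap (MvPolynomial (Fin (n + 1)) k) (Localization.Away ℓ) ℓ * (coordL hℓ j).val =
      algebraMap _ _ (X j : MvPolynomial (Fin (n + 1)) k) := by
  rw [show (coordL hℓ j).val = Localization.mk (X j) ⟨ℓ, Submonoid.mem_powers _⟩ from rfl, Localization.mk_eq_mk']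
  exact IsLocalization.mk'_spec' (Localization.Away ℓ) (X j) (⟨ℓ, Submonoid.mem_powers _⟩ : Submonoid.powers ℓ)

/-- Degree zero fractions are polynomials in the `T_j / ℓ`. -/
theorem eq_eval₂ {a : MvPolynomial (Fin (n + 1)) k} {d : ℕ} (ha : a ∈ CohB1.polyGrading n k (d • 1)) :
    HomogeneousLocalization.Away.mk (CohB1.polyGrading n k) (d := 1) hℓ d a ha =
      eval₂Hom (constL ℓ) (coordL hℓ) a := by
  apply HomogeneousLocalization.val_injective
  erw [HomogeneousLocalization.Away.val_mk]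
  set L := Localization.Away ℓ
  set g : k →+* L := (algebraMap (MvPolynomial (Fin (n + 1)) k) L).comp C
  have h1 : (eval₂Hom (constL ℓ) (coordL hℓ) a).val = eval₂Hom g (fun j => (coordL hℓ j).val) a := by
    have : (algebraMap (AwayL n ℓ) L).comp (eval₂Hom (constL ℓ) (coordL hℓ)) =
        eval₂Hom g (fun j => (coordL hℓ j).val) := by
      apply MvPolynomial.ringHom_ext
      · intro r; simp [g]; exact val_constL r
      · intro j; simp; rfl
    exact DFunLike.congr_fun this a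
  have h2 := Charts.eval₂Hom_mul_of_isHomogeneous g (algebraMap (MvPolynomial (Fin (n + 1)) k) L ℓ)
    (fun j => (coordL hℓ j).val) (p := a) (m := d) (by simpa using ha)
  rw [show (fun j => algebraMap (MvPolynomial (Fin (n + 1)) k) L ℓ * (coordL hℓ j).val) =
      fun j => algebraMap (MvPolynomial (Fin (n + 1)) k) L (X j) from funext (algebraMap_mul_val_coordL hℓ)] at h2
  have h3 : eval₂Hom g (fun j => algebraMap (MvPolynomial (Fin (n + 1)) k) L (X j)) = algebraMap _ L := by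
    apply MvPolynomial.ringHom_ext <;> intro j <;> simp [g]
  rw [h3, ← h1] at h2
  rw [Localization.mk_eq_mk', IsLocalization.mk'_eq_iff_eq_mul]
  simpa [mul_comm] using h2

theorem awayL_hom_ext {B : Type u} [CommRing B] {φ φ' : AwayL n ℓ →+* B}
    (hc : φ.comp (constL ℓ) = φ'.comp (constL ℓ)) (hx : ∀ j, φ (coordL hℓ j) = φ' (coordL hℓ j)) : φ = φ' := by
  refine RingHom.ext fun x => ?_
  obtain ⟨d, a, ha, rfl⟩ := HomogeneousLocalization.Away.mk_surjective (CohB1.polyGrading n k) (d := 1) hℓ x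
  rw [eq_eval₂ hℓ ha]
  have : φ.comp (eval₂Hom (constL ℓ) (coordL hℓ)) = φ'.comp (eval₂Hom (constL ℓ) (coordL hℓ)) := by
    apply MvPolynomial.ringHom_ext
    · intro r; simp only [RingHom.comp_apply, eval₂Hom_C]; exact DFunLike.congr_fun hc r
    · intro j; simp only [RingHom.comp_apply, eval₂Hom_X']; exact hx j
  exact DFunLike.congr_fun this a

theorem awayι_toSpec :
    AlgebraicGeometry.Proj.awayι (CohB1.polyGrading n k) ℓ (m := 1) hℓ one_pos ≫ CohB1.ProjSpace.toSpec n k =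
      Spec.map (CommRingCat.ofHom (constL ℓ)) := by
  change AlgebraicGeometry.Proj.awayι _ _ hℓ one_pos ≫ AlgebraicGeometry.Proj.toSpecZero _ ≫ _ = _
  rw [AlgebraicGeometry.Proj.awayι_toSpecZero_assoc]
  exact (Spec.map_comp _ _).symm

include hℓ in
/-- The line through two points of the complement of a hyperplane `∑_{i ∈ S} T_i = 0`. -/
theorem exists_line (S : Finset (Fin (n + 1))) (hℓS : ℓ = ∑ i ∈ S, X i) (ψ ψ' : AwayL n ℓ →+* K)
    (h : ψ.comp (constL ℓ) = algebraMap k K) (h' : ψ'.comp (constL ℓ) = algebraMap k K) :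
    ∃ φ : AwayL n ℓ →+* MvPolynomial (Fin 1) K, φ.comp (constL ℓ) = C.comp (algebraMap k K) ∧
      (MvPolynomial.eval fun _ => (0 : K)).comp φ = ψ ∧ (MvPolynomial.eval fun _ => (1 : K)).comp φ = ψ' := by
  classical
  let g : MvPolynomial (Fin (n + 1)) k →+* MvPolynomial (Fin 1) K :=
    eval₂Hom (C.comp (algebraMap k K)) fun j => interp (ψ (coordL hℓ j)) (ψ' (coordL hℓ j))
  have hsum : (∑ i ∈ S, coordL hℓ i) = 1 := by
    apply HomogeneousLocalization.val_injective
    rw [HomogeneousLocalization.val_one, ← HomogeneousLocalization.algebraMap_apply, map_sum]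
    refine ((IsLocalization.Away.algebraMap_isUnit (S := Localization.Away ℓ) ℓ).mul_right_injective) ?_
    simp only [HomogeneousLocalization.algebraMap_apply, Finset.mul_sum, algebraMap_mul_val_coordL, mul_one,
      ← map_sum, ← hℓS]
  have hg : g ℓ = 1 := by
    have e1 : g ℓ = ∑ i ∈ S, interp (ψ (coordL hℓ i)) (ψ' (coordL hℓ i)) := by
      conv_lhs => rw [hℓS]
      simp only [g, map_sum, eval₂Hom_X']
    have a : ∑ i ∈ S, ψ (coordL hℓ i) = 1 := by rw [← map_sum, hsum, map_one]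
    have b : ∑ i ∈ S, ψ' (coordL hℓ i) = 1 := by rw [← map_sum, hsum, map_one]
    rw [e1]
    simp only [interp, Finset.sum_add_distrib, ← Finset.mul_sum, Finset.sum_sub_distrib, ← map_sum, a, b,
      sub_self, mul_zero, add_zero, map_one]
  let φ : AwayL n ℓ →+* MvPolynomial (Fin 1) K :=
    (IsLocalization.Away.lift (S := Localization.Away ℓ) ℓ (g := g) (by rw [hg]; exact isUnit_one)).comp
      (algebraMap (AwayL n ℓ) (Localization.Away ℓ))
  have hc : ∀ r : k, φ (constL ℓ r) = C (algebraMap k K r) := fun r => by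
    simp only [φ, RingHom.comp_apply, HomogeneousLocalization.algebraMap_apply, val_constL,
      IsLocalization.Away.lift_eq, g, eval₂Hom_C]
  have hj : ∀ j, φ (coordL hℓ j) = interp (ψ (coordL hℓ j)) (ψ' (coordL hℓ j)) := fun j => by
    have e := congrArg (IsLocalization.Away.lift (S := Localization.Away ℓ) ℓ (g := g)
      (by rw [hg]; exact isUnit_one)) (algebraMap_mul_val_coordL hℓ j)
    simp only [map_mul, IsLocalization.Away.lift_eq, hg, one_mul] at e
    refine Eq.trans ?_ (eval₂Hom_X' (C.comp (algebraMap k K))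
      (fun j => interp (ψ (coordL hℓ j)) (ψ' (coordL hℓ j))) j)
    exact e
  refine ⟨φ, RingHom.ext hc, awayL_hom_ext hℓ ?_ fun j => ?_, awayL_hom_ext hℓ ?_ fun j => ?_⟩
  · rw [h]; ext r; simp [hc]
  · rw [RingHom.comp_apply, hj, eval_interp_zero]
  · rw [h']; ext r; simp [hc]
  · rw [RingHom.comp_apply, hj, eval_interp_one]

theorem exists_finset (p q : CohB1.ProjSpace n k) :
    ∃ S : Finset (Fin (n + 1)), p ∈ AlgebraicGeometry.Proj.basicOpen (CohB1.polyGrading n k) (∑ i ∈ S, X i) ∧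
      q ∈ AlgebraicGeometry.Proj.basicOpen (CohB1.polyGrading n k) (∑ i ∈ S, X i) := by
  classical
  obtain ⟨i, hi⟩ := TopologicalSpace.Opens.mem_iSup.mp ((Basic.iSup_basicOpen_X_eq_top n k).ge (trivial : p ∈ (⊤ : (CohB1.ProjSpace n k).Opens)))
  obtain ⟨j, hj⟩ := TopologicalSpace.Opens.mem_iSup.mp ((Basic.iSup_basicOpen_X_eq_top n k).ge (trivial : q ∈ (⊤ : (CohB1.ProjSpace n k).Opens)))
  by_cases hiq : (X i : MvPolynomial (Fin (n + 1)) k) ∈ q.asHomogeneousIdeal.toIdeal
  swap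
  · exact ⟨{i}, by rw [Finset.sum_singleton]; exact hi, by rw [Finset.sum_singleton]; exact hiq⟩
  by_cases hjp : (X j : MvPolynomial (Fin (n + 1)) k) ∈ p.asHomogeneousIdeal.toIdeal
  swap
  · exact ⟨{j}, by rw [Finset.sum_singleton]; exact hjp, by rw [Finset.sum_singleton]; exact hj⟩
  have hij : i ≠ j := fun h => hj (h ▸ hiq)
  refine ⟨{i, j}, ?_, ?_⟩ <;> rw [Finset.sum_pair hij]
  · exact fun h => hi ((Ideal.add_mem_iff_left p.asHomogeneousIdeal.toIdeal hjp).1 h)
  · exact fun h => hj ((Ideal.add_mem_iff_right q.asHomogeneousIdeal.toIdeal hiq).1 h)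

theorem exists_line_hom (PA PB : Spec (CommRingCat.of K) ⟶ CohB1.ProjSpace n k)
    (hA : PA ≫ CohB1.ProjSpace.toSpec n k = _root_.REq.specMap k K)
    (hB : PB ≫ CohB1.ProjSpace.toSpec n k = _root_.REq.specMap k K) :
    ∃ l : Spec (CommRingCat.of (MvPolynomial (Fin 1) K)) ⟶ CohB1.ProjSpace n k,
      l ≫ CohB1.ProjSpace.toSpec n k = Spec.map (CommRingCat.ofHom (C : K →+* MvPolynomial (Fin 1) K)) ≫ _root_.REq.specMap k K ∧
      evalPt 0 ≫ l = PA ∧ evalPt 1 ≫ l = PB := by
  obtain ⟨S, hSA, hSB⟩ := exists_finset (PA (IsLocalRing.closedPoint K)) (PB (IsLocalRing.closedPoint K))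
  let ℓ : MvPolynomial (Fin (n + 1)) k := ∑ i ∈ S, X i
  have hℓ : ℓ.IsHomogeneous 1 := IsHomogeneous.sum _ _ _ fun i _ => isHomogeneous_X k i
  let ι : Spec (CommRingCat.of (AwayL n ℓ)) ⟶ CohB1.ProjSpace n k :=
    AlgebraicGeometry.Proj.awayι (CohB1.polyGrading n k) ℓ (m := 1) hℓ one_pos
  haveI : IsOpenImmersion ι :=
    inferInstanceAs (IsOpenImmersion (AlgebraicGeometry.Proj.awayι (CohB1.polyGrading n k) ℓ (m := 1) hℓ one_pos))
  have hιS : ι ≫ CohB1.ProjSpace.toSpec n k = Spec.map (CommRingCat.ofHom (constL ℓ)) := awayι_toSpec hℓ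
  have key : ∀ P : Spec (CommRingCat.of K) ⟶ CohB1.ProjSpace n k,
      P ≫ CohB1.ProjSpace.toSpec n k = _root_.REq.specMap k K →
      P (IsLocalRing.closedPoint K) ∈ AlgebraicGeometry.Proj.basicOpen (CohB1.polyGrading n k) ℓ →
      ∃ ψ : AwayL n ℓ →+* K, ψ.comp (constL ℓ) = algebraMap k K ∧ Spec.map (CommRingCat.ofHom ψ) ≫ ι = P := by
    intro P hP hmem
    have hr : Set.range P ⊆ Set.range ι := by
      rintro _ ⟨s, rfl⟩
      rw [show s = IsLocalRing.closedPoint K from Subsingleton.elim (α := PrimeSpectrum K) _ _,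
        ← Scheme.Hom.coe_opensRange]
      erw [AlgebraicGeometry.Proj.opensRange_awayι]
      exact hmem
    obtain ⟨ψ, hψ⟩ := Spec.homEquiv.symm.surjective (IsOpenImmersion.lift ι P hr)
    have hfac : Spec.map ψ ≫ ι = P := (congrArg (· ≫ ι) hψ).trans (IsOpenImmersion.lift_fac _ _ _)
    refine ⟨ψ.hom, ?_, hfac⟩
    have h := hP
    rw [← hfac, Category.assoc, hιS, ← Spec.map_comp] at h
    exact congrArg CommRingCat.Hom.hom (Spec.map_injective h)
  obtain ⟨ψ, h1, h2⟩ := key PA hA hSA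
  obtain ⟨ψ', h1', h2'⟩ := key PB hB hSB
  obtain ⟨φ, hφc, hφ0, hφ1⟩ := exists_line hℓ S rfl ψ ψ' h1 h1'
  refine ⟨Spec.map (CommRingCat.ofHom φ) ≫ ι, ?_, ?_, ?_⟩
  · rw [Category.assoc, hιS, ← Spec.map_comp, ← Spec.map_comp, ← CommRingCat.ofHom_comp,
      ← CommRingCat.ofHom_comp, hφc]
  · rw [evalPt, ← Category.assoc, ← Spec.map_comp, ← CommRingCat.ofHom_comp, hφ0, h2]
  · rw [evalPt, ← Category.assoc, ← Spec.map_comp, ← CommRingCat.ofHom_comp, hφ1, h2']

theorem elemLink_projSpaceOver (V : (CohB1.ProjSpaceOver n (Spec (CommRingCat.of k))).Opens)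
    (A B : _root_.REq.Pts (V.ι ≫ CohB1.ProjSpaceOver.toBase n (Spec (CommRingCat.of k))) K) :
    _root_.REq.ElemLink (V.ι ≫ CohB1.ProjSpaceOver.toBase n (Spec (CommRingCat.of k))) K A B := by
  let e := BaseChange.overSpecIso n k
  have hP : ∀ P : _root_.REq.Pts (V.ι ≫ CohB1.ProjSpaceOver.toBase n (Spec (CommRingCat.of k))) K,
      (P.1 ≫ V.ι ≫ e.hom) ≫ CohB1.ProjSpace.toSpec n k = _root_.REq.specMap k K := by
    intro P
    refine Eq.trans ?_ P.2
    rw [Category.assoc, Category.assoc]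
    erw [BaseChange.overSpecIso_hom_toSpec]
  obtain ⟨l, hl, hl0, hl1⟩ := exists_line_hom (A.1 ≫ V.ι ≫ e.hom) (B.1 ≫ V.ι ≫ e.hom) (hP A) (hP B)
  refine elemLink_of_hom V (l ≫ e.inv) ?_ A B ?_ ?_
  · rw [Category.assoc]
    erw [BaseChange.overSpecIso_inv_toBase]
    exact hl
  · rw [reassoc_of% hl0, Iso.hom_inv_id, Category.comp_id]
  · rw [reassoc_of% hl1, Iso.hom_inv_id, Category.comp_id]

end Groth.Agent.Lib.H75.REq.Proj
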